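import Groth.Agent.CurveOmega.General
import Groth.Agent.W7Slope.Hom
import Groth.Agent.W7See.Fibre
import Groth.Agent.W7Cover.GeomConn
import Groth.Agent.Rigid.Smooth
import Groth.Agent.SectRank.RelDim
import Groth.Agent.TMul.Pullback

/-!
The relative canonical module of a smooth proper family of curves.
-/

set_option autoImplicit false
set_option backward.isDefEq.respectTransparency false
set_option backward.isDefEq.respectTransparency.types false
set_option linter.style.haveILetI false

universe u

open CategoryTheory CategoryTheory.Limits AlgebraicGeometry TopologicalSpace Opposite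

noncomputable section

namespace Groth.Agent.CurveFam

variable {X S : Scheme.{u}} (f : X ⟶ S) [IsProper f] [Smooth f]

/-- Differentials commute with passing to a fibre. -/
theorem nonempty_omega_fiber (s : S) : Nonempty ((Scheme.Modules.pullback (f.fiberι s)).obj (Omega.sheaf f) ≅
    Omega.sheaf (f.fiberToSpecResidueField s)) := by
  haveI : IsProper (f.fiberToSpecResidueField s) := MorphismProperty.pullback_snd _ _ inferInstance
  have sq : IsPullback (f.fiberι s) (f.fiberToSpecResidueField s) f (S.fromSpecResidueField s) :=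
    IsPullback.of_hasPullback _ _
  have hd := OmegaLib.isUniversal_dOmega f
  have hd' := OmegaLib.isUniversal_dOmega (f.fiberToSpecResidueField s)
  obtain ⟨c, hc, -⟩ := OmegaLib.existsUnique_diffCompat sq.w.symm hd (OmegaSh.dOmega (f.fiberToSpecResidueField s))
  haveI := OmegaLib.isIso_of_isPullback sq hd hd' hc
  exact ⟨asIso c⟩

variable [GeometricallyConnected f] (hdim : ∀ s : S, topologicalKrullDim ↥(f.fiber s) = 1)
include hdim

/-- The fibres are integral. -/
theorem isIntegral_fiber (s : S) : IsIntegral (f.fiber s) := by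
  letI : (f.fiber s).Over (Spec (S.residueField s)) := ⟨f.fiberToSpecResidueField s⟩
  haveI : IsProper (f.fiber s ↘ Spec (CommRingCat.of (S.residueField s))) :=
    MorphismProperty.pullback_snd _ _ ‹IsProper f›
  haveI : Smooth (f.fiber s ↘ Spec (CommRingCat.of (S.residueField s))) :=
    MorphismProperty.pullback_snd _ _ ‹Smooth f›
  haveI : GeometricallyConnected (f.fiber s ↘ Spec (CommRingCat.of (S.residueField s))) :=
    MorphismProperty.pullback_snd _ _ ‹GeometricallyConnected f›
  exact W7Slope.isIntegral_of_geomConn (S.residueField s) (hdim s)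

omit hdim in
/-- The functions on a fibre are the constants. -/
theorem h0_fiber (s : S) :
    letI : (f.fiber s).Over (Spec (S.residueField s)) := ⟨f.fiberToSpecResidueField s⟩
    CurveRR.h (S.residueField s) (Coh.structureModule (f.fiber s)) 0 = 1 := by
  letI : (f.fiber s).Over (Spec (S.residueField s)) := ⟨f.fiberToSpecResidueField s⟩
  haveI : IsProper (f.fiber s ↘ Spec (CommRingCat.of (S.residueField s))) :=
    MorphismProperty.pullback_snd _ _ ‹IsProper f›
  haveI : Smooth (f.fiber s ↘ Spec (CommRingCat.of (S.residueField s))) :=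
    MorphismProperty.pullback_snd _ _ ‹Smooth f›
  haveI : GeometricallyConnected (f.fiber s ↘ Spec (CommRingCat.of (S.residueField s))) :=
    MorphismProperty.pullback_snd _ _ ‹GeometricallyConnected f›
  exact W7Cover.h0_of_geometricallyConnected

/-- The differentials of a family of curves form an invertible module. -/
theorem isInvertible_omega : PicF.IsInvertible (Omega.sheaf f) := by
  refine ZeroSch.isInvertible_of_rankOne fun x => ?_
  obtain ⟨U, n, hxU, hiso, hn⟩ := OmegaLib.exists_free_rank_fibreDimAt (OmegaLib.isUniversal_dOmega f) x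
  haveI := isIntegral_fiber f hdim (f x)
  haveI : LocallyOfFiniteType (f.fiberToSpecResidueField (f x)) := MorphismProperty.pullback_snd _ _ inferInstance
  have h1 : FlatMor.fibreDimAt f x = topologicalKrullDim ↥(f.fiber (f x)) :=
    SectRank.localDim_eq_dim (k := S.residueField (f x)) (f.fiberToSpecResidueField (f x)) (f.asFiber x)
  rw [h1, hdim] at hn
  obtain rfl : n = 1 := by exact_mod_cast hn.symm
  exact ⟨U, hxU, hiso⟩

/-- A pluricanonical module on a fibre, in the degrees `n ≥ 2`: no `H¹`, and `(2n-1)(g-1)` sections. -/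
theorem pluri_fiber {g : ℕ} (hg : 2 ≤ g)
    (hgen : ∀ s : S, letI : (f.fiber s).Over (Spec (S.residueField s)) := ⟨f.fiberToSpecResidueField s⟩
      Curv2.genus (S.residueField s) (f.fiber s) = g) {n : ℕ} (hn : 2 ≤ n) (s : S) :
    letI : (f.fiber s).Over (Spec (S.residueField s)) := ⟨f.fiberToSpecResidueField s⟩
    let M := (Scheme.Modules.pullback (f.fiberι s)).obj (CohB1.tensorPow (Omega.sheaf f) n)
    Subsingleton (Coh.HH _ M 1) ∧ CurveRR.h (S.residueField s) M 0 = (2 * n - 1) * (g - 1) ∧
      Curv2.deg (S.residueField s) (f.fiber s) M 1 = n * (2 * (g : ℤ) - 2) := by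
  letI : (f.fiber s).Over (Spec (S.residueField s)) := ⟨f.fiberToSpecResidueField s⟩
  haveI : IsProper (f.fiber s ↘ Spec (CommRingCat.of (S.residueField s))) :=
    MorphismProperty.pullback_snd _ _ ‹IsProper f›
  haveI : Smooth (f.fiber s ↘ Spec (CommRingCat.of (S.residueField s))) :=
    MorphismProperty.pullback_snd _ _ ‹Smooth f›
  haveI := isIntegral_fiber f hdim s
  intro M
  have h0 := h0_fiber f s
  have hd : topologicalKrullDim ↥(f.fiber s) ≤ 1 := (hdim s).le
  have hI := isInvertible_omega f hdim
  have hM : PicF.IsInvertible M := PicLoc.isInvertible_pullback _ (TMul.isInvertible_tensorPow hI n)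
  have hIs := PicLoc.isInvertible_pullback (f.fiberι s) hI
  obtain ⟨e⟩ := TMul.nonempty_pullPowIso (f.fiberι s) (Omega.sheaf f) n
  obtain ⟨e'⟩ := nonempty_omega_fiber f s
  have hω := (CurveOmega.omega_facts' (S.residueField s) (f.fiber s) (hdim s) h0).2.2
  have hdeg : Curv2.deg (S.residueField s) (f.fiber s) M 1 = n * (2 * (g : ℤ) - 2) := by
    have h1 : Curv2.deg (S.residueField s) (f.fiber s) M 1 =
        Curv2.deg (S.residueField s) (f.fiber s)
          (CohB1.tensorPow ((Scheme.Modules.pullback (f.fiberι s)).obj (Omega.sheaf f)) n) 1 := by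
      rw [Curv2.deg, Curv2.deg, CurveRR.euler_eq_of_iso e.symm]
    rw [h1, CurveRR.deg_tensorPow hd hIs, Curv2.deg, CurveRR.euler_eq_of_iso e', ← hgen s]
    exact congrArg (fun z : ℤ => (n : ℤ) * z) hω
  have hbig : 2 * (Curv2.genus (S.residueField s) (f.fiber s) : ℤ) - 1 ≤
      Curv2.deg (S.residueField s) (f.fiber s) M 1 := by
    rw [hdeg, hgen s]
    have h2 : (2 : ℤ) * (2 * (g : ℤ) - 2) ≤ n * (2 * (g : ℤ) - 2) :=
      mul_le_mul_of_nonneg_right (by exact_mod_cast hn) (by omega)
    omega
  refine ⟨CurveRR.subsingleton_h1 hd h0 hM hbig, ?_, hdeg⟩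
  have h3 := CurveRR.h0_eq_of_deg hd h0 hM hbig
  rw [hdeg, hgen s] at h3
  zify
  rw [h3, Nat.cast_sub (by omega : 1 ≤ 2 * n), Nat.cast_sub (by omega : 1 ≤ g)]
  push_cast
  ring

end Groth.Agent.CurveFam
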