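import Groth.Agent.W7Hull.PushOne

/-!
Exactness of `T⁰` of the structure sheaf near a fibre with trivial functions.
-/

set_option autoImplicit false
set_option backward.isDefEq.respectTransparency false
set_option backward.isDefEq.respectTransparency.types false
set_option linter.style.haveILetI false
set_option maxHeartbeats 1000000

universe u

open CategoryTheory CategoryTheory.Limits AlgebraicGeometry TopologicalSpace Opposite
open Groth.Agent.QC (res resO res_res res_smul app_res)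
open TMul (IsGen)

noncomputable section

namespace Groth.Agent.W7Hull

variable {X Y : Scheme.{u}} (f : X ⟶ Y) [IsProper f] [Flat f] [LocallyOfFinitePresentation f]

set_option maxHeartbeats 2000000 in
/-- Trivial functions on a fibre make `T⁰` exact nearby. -/
theorem exists_nhd_epi_of_fibre (y : Y)
    (hy : Function.Bijective ((f.fiberToSpecResidueField y).appTop.hom.comp
      (Scheme.ΓSpecIso (Y.residueField y)).inv.hom)) :
    ∃ W : Y.Opens, y ∈ W ∧ ∀ (U : Y.Opens) (hU : IsAffineOpen U), U ≤ W →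
      ∀ m : W7Cech.ModelNN f (Coh.structureModule X) hU, (CohIII.TFun m.L 0).PreservesEpimorphisms := by
  let O := Coh.structureModule X
  have hq : Coh.IsQCoh O := QC.isQCoh_unit X
  have hF : CohB1.IsFP O := SchDense.isFP_unit X
  have hfl : FlatMod.IsFlatOver f O := SchDense.isFlatOver_unit f
  let g := Y.fromSpecResidueField y
  let f' := f.fiberToSpecResidueField y
  let ι := f.fiberι y
  have sq : IsPullback ι f' f g := IsPullback.of_hasPullback f g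
  have hVU : ∀ U : Y.Opens, y ∈ U → (⊤ : (Spec (Y.residueField y)).Opens) ≤ g ⁻¹ᵁ U := fun U hU z _ => by
    change g z ∈ U
    rw [Scheme.fromSpecResidueField_apply]
    exact hU
  have hle : ∀ U : Y.Opens, y ∈ U → f' ⁻¹ᵁ ⊤ ≤ ι ⁻¹ᵁ (f ⁻¹ᵁ U) := fun U hU z _ => by
    change f (ι z) ∈ U
    rw [← Scheme.Hom.comp_apply, sq.w, Scheme.Hom.comp_apply]
    exact hVU U hU (show f' z ∈ (⊤ : (Spec (Y.residueField y)).Opens) from trivial)
  have hq0 : Function.Bijective (Scheme.ΓSpecIso (Y.residueField y)).inv.hom :=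
    ConcreteCategory.bijective_of_isIso _
  have hf' : Function.Bijective (f'.app ⊤).hom := (Function.Bijective.of_comp_iff _ hq0).1 hy
  have hgen : ∀ (U : Y.Opens) (hU : y ∈ U),
      IsGen (ModDesc.pullSectLE ι O (f ⁻¹ᵁ U) (f' ⁻¹ᵁ ⊤) (hle U hU) (one (f ⁻¹ᵁ U))) := fun U hU => by
    rw [ModDesc.pullSectLE_apply]
    exact (C1Cap.isGen_eta ι (isGen_one (f ⁻¹ᵁ U))).res _
  -- spanning
  obtain ⟨V₀, hV₀, hyV₀, -⟩ := exists_isAffineOpen_mem_and_subset (x := y) (U := ⊤) trivial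
  have hspan : W7Cech.SpanAt f O f' ι V₀ ⊤ (hle V₀ hyV₀) := by
    refine eq_top_iff.2 fun x _ => ?_
    obtain ⟨c, hc⟩ := (hgen V₀ hyV₀ (f' ⁻¹ᵁ ⊤) le_rfl).2
      (show Γ((Scheme.Modules.pullback ι).obj O, f' ⁻¹ᵁ ⊤) from x)
    obtain ⟨b, rfl⟩ := hf'.2 c
    change (f'.app ⊤).hom b • res ((Scheme.Modules.pullback ι).obj O) le_rfl
      (ModDesc.pullSectLE ι O (f ⁻¹ᵁ V₀) (f' ⁻¹ᵁ ⊤) (hle V₀ hyV₀) (one (f ⁻¹ᵁ V₀))) = _ at hc
    rw [QC.res_self] at hc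
    have hb : x = b • (show (W7Cech.SM f' ((Scheme.Modules.pullback ι).obj O) (f' ⁻¹ᵁ ⊤) le_rfl : Type u) from
        ModDesc.pullSectLE ι O (f ⁻¹ᵁ V₀) (f' ⁻¹ᵁ ⊤) (hle V₀ hyV₀) (one (f ⁻¹ᵁ V₀))) := by
      refine hc.symm.trans ?_
      change (f'.app ⊤).hom b • ModDesc.pullSectLE ι O (f ⁻¹ᵁ V₀) (f' ⁻¹ᵁ ⊤) (hle V₀ hyV₀) (one (f ⁻¹ᵁ V₀)) =
        (f'.appLE ⊤ (f' ⁻¹ᵁ ⊤) le_rfl).hom b • ModDesc.pullSectLE ι O (f ⁻¹ᵁ V₀) (f' ⁻¹ᵁ ⊤) (hle V₀ hyV₀) (one (f ⁻¹ᵁ V₀))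
      rw [← f'.app_eq_appLE]
    rw [hb]
    exact Submodule.smul_mem _ b (Submodule.subset_span ⟨one (f ⁻¹ᵁ V₀), rfl⟩)
  obtain ⟨W, hyW, -, hW⟩ := W7Cech.exists_nhd_epi_of_spanAt f O hq hF hfl y hV₀ hyV₀ _ hspan
  exact ⟨W, hyW, hW⟩

end Groth.Agent.W7Hull
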