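import Groth.Agent.VAmpleNear.Basic
import Groth.Agent.PicFam.Basic

/-!
Very ampleness on a fibre spreads, over an arbitrary base, for morphisms of finite presentation.
-/

set_option autoImplicit false
set_option backward.isDefEq.respectTransparency false
set_option backward.isDefEq.respectTransparency.types false
set_option linter.style.haveILetI false
set_option maxHeartbeats 1000000

universe u

open CategoryTheory CategoryTheory.Limits AlgebraicGeometry TopologicalSpace Opposite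
open Groth.Agent.QC (res res_res res_smul app_res)
open TMul (IsGen tm val homOf val_homOf)
open IsLocalRing ProjMor

noncomputable section

namespace Groth.Agent.CurveFam

open W7Hull VAmpleNear

variable {X Y : Scheme.{u}}

variable (f : X ⟶ Y) [IsProper f] [Flat f] [LocallyOfFinitePresentation f]

/-- Finitely many sections on the fibre come, up to a common unit, from sections over a neighbourhood. -/
theorem exists_lift (H : X.Modules) (hH : PicF.IsInvertible H) (y : Y)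
    (h1 : Subsingleton (CohIII.fiberH f H y 1)) {ι' : Type} [Fintype ι'] [DecidableEq ι']
    (v : ι' → Γ((Scheme.Modules.pullback (f.fiberι y)).obj H, ⊤)) :
    ∃ (U : Y.Opens) (h : (⊤ : (f.fiber y).Opens) ≤ f.fiberι y ⁻¹ᵁ (f ⁻¹ᵁ U)) (g : ι' → Γ(H, f ⁻¹ᵁ U))
      (c : Γ(f.fiber y, ⊤)), IsAffineOpen U ∧ y ∈ U ∧ IsUnit c ∧
      ∀ j, ModDesc.pullSectLE (f.fiberι y) H (f ⁻¹ᵁ U) ⊤ h (g j) = c • v j := by
  have hF := isFP_of_isInvertible hH
  have hfl := isFlatOver_of_isInvertible f hH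
  have hq := FibDepth.isQCoh_of_isFP hF
  obtain ⟨W, hyW, hW⟩ := PicFam.exists_nhd_epi_of_vanish f H hH y h1
  obtain ⟨U, hU, hyU, hUW⟩ := exists_isAffineOpen_mem_and_subset (x := y) (U := W) hyW
  obtain ⟨m⟩ := W7Cech.nonempty_ModelNN f hq hF hfl hU
  have he : (CohIII.TFun m.L 0).PreservesEpimorphisms := hW U hU hUW m
  let g := Y.fromSpecResidueField y
  let f' := f.fiberToSpecResidueField y
  let ι := f.fiberι y
  have sq : IsPullback ι f' f g := IsPullback.of_hasPullback f g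
  have hVU : (⊤ : (Spec (Y.residueField y)).Opens) ≤ g ⁻¹ᵁ U := fun z _ => by
    change g z ∈ U
    rw [Scheme.fromSpecResidueField_apply]
    exact hyU
  have hbc := W7Cech.isBC_bc0Adj f hq hfl hU m he sq (isAffineOpen_top _) hVU
  let θ := CohBC.bc0Adj f g f' ι sq.w H
  let r := RelTilde.resθ g θ hVU
  have hle : (⊤ : (f.fiber y).Opens) ≤ ι ⁻¹ᵁ (f ⁻¹ᵁ U) := fun z _ => by
    change f (ι z) ∈ U
    rw [← Scheme.Hom.comp_apply, sq.w, Scheme.Hom.comp_apply]
    exact hVU (show f' z ∈ (⊤ : (Spec (Y.residueField y)).Opens) from trivial)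
  let K := (Scheme.Modules.pushforward f').obj ((Scheme.Modules.pullback ι).obj H)
  let S : Submodule Γ(Spec (Y.residueField y), ⊤) Γ(K, ⊤) := Submodule.span _ (Set.range r)
  have hS : S = ⊤ := by
    obtain ⟨φ, -, huniq⟩ := hbc (Γ(K, ⊤) ⧸ S) 0
    have h2 := huniq S.mkQ fun s => (Submodule.Quotient.mk_eq_zero S).2 (Submodule.subset_span ⟨s, rfl⟩)
    have h3 := huniq 0 fun s => rfl
    exact eq_top_iff.2 fun t _ => (Submodule.Quotient.mk_eq_zero S).1 (LinearMap.congr_fun (h2.trans h3.symm) t)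
  let β := (g.appLE U ⊤ hVU).hom
  let q := Scheme.ΓSpecIso (Y.residueField y)
  have hq' : ∀ a, q.hom.hom (β a) = (Y.evaluation U y hyU).hom a := fun a =>
    congr(($(W7Cech.appLE_fromSpecResidueField hU y hyU hVU)).hom a)
  have hqb : Function.Bijective q.hom.hom := ConcreteCategory.bijective_of_isIso q.hom
  -- every element is a unit multiple of an image
  have key : ∀ x ∈ S, ∃ a, (Y.evaluation U y hyU).hom a ≠ 0 ∧ ∃ s, β a • x = r s := by
    intro x hx
    induction hx using Submodule.span_induction with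
    | mem x hx =>
      obtain ⟨s, rfl⟩ := hx
      exact ⟨1, by rw [map_one]; exact one_ne_zero, s, by rw [map_one, one_smul]⟩
    | zero => exact ⟨1, by rw [map_one]; exact one_ne_zero, 0, by rw [smul_zero, map_zero]⟩
    | add x z _ _ hx hz =>
      obtain ⟨a, ha, s, hs⟩ := hx
      obtain ⟨b, hb, t, ht⟩ := hz
      refine ⟨a * b, by rw [map_mul]; exact mul_ne_zero ha hb, b • s + a • t, ?_⟩
      rw [map_add, map_smulₛₗ, map_smulₛₗ, ← hs, ← ht, smul_smul, smul_smul, map_mul, mul_comm (β b), smul_add]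
    | smul c x _ hx =>
      obtain ⟨a, ha, s, hs⟩ := hx
      obtain ⟨b, d, hb, hd⟩ := exists_fraction hU y hyU (q.hom.hom c)
      refine ⟨a * b, by rw [map_mul]; exact mul_ne_zero ha hb, d • s, ?_⟩
      have hcb : c * β b = β d := hqb.1 (by rw [map_mul, hq', hq', hd])
      rw [map_smulₛₗ, ← hs, smul_smul, smul_smul, ← hcb, map_mul]
      congr 1
      ring
  choose a ha s hs using fun j => key (show Γ(K, ⊤) from v j) (hS ▸ Submodule.mem_top)
  let A := ∏ j, a j
  have hA : (Y.evaluation U y hyU).hom A ≠ 0 := by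
    rw [map_prod]
    exact Finset.prod_ne_zero_iff.2 fun j _ => ha j
  have hu : IsUnit (β A) := by
    refine (isUnit_map_iff (RingEquiv.ofBijective q.hom.hom hqb) _).1 ?_
    exact IsUnit.mk0 _ (by rw [show RingEquiv.ofBijective q.hom.hom hqb (β A) = q.hom.hom (β A) from rfl, hq']; exact hA)
  refine ⟨U, hle, fun j => (show Γ(H, f ⁻¹ᵁ U) from (∏ k ∈ Finset.univ.erase j, a k) • s j),
    (show Γ(f.fiber y, ⊤) from (f'.app ⊤).hom (β A)), hU, hyU, hu.map (f'.app ⊤).hom, fun j => ?_⟩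
  have hA' : A = (∏ k ∈ Finset.univ.erase j, a k) * a j :=
    (Finset.prod_erase_mul _ _ (Finset.mem_univ j)).symm
  have h2 : r ((∏ k ∈ Finset.univ.erase j, a k) • s j) = β A • (show Γ(K, ⊤) from v j) := by
    rw [map_smulₛₗ, ← hs, smul_smul, hA', map_mul]
  refine Eq.trans ?_ h2
  exact (res_res _ _ _ _).symm

/-- Shrink the base so that sections generating along a fibre generate everywhere. -/
theorem exists_affine_shrink (H : X.Modules) (y : Y) {U : Y.Opens} (hyU : y ∈ U) {ι' : Type*}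
    (g : ι' → Γ(H, f ⁻¹ᵁ U))
    (hfib : ∀ x : X, f x = y → ∃ (j : ι') (W : X.Opens) (hW : W ≤ f ⁻¹ᵁ U), x ∈ W ∧ IsGen (res H hW (g j))) :
    ∃ (U' : Y.Opens) (hle : U' ≤ U), IsAffineOpen U' ∧ y ∈ U' ∧
      ∀ x, x ∈ f ⁻¹ᵁ U' → ∃ (j : ι') (W : X.Opens) (hW : W ≤ f ⁻¹ᵁ U'), x ∈ W ∧
        IsGen (res H hW (res H (f.preimage_mono hle) (g j))) := by
  let O : X.Opens := sSup {V : X.Opens | ∃ (j : ι') (h : V ≤ f ⁻¹ᵁ U), IsGen (res H h (g j))}
  have hO : ∀ x : X, f x = y → x ∈ O := fun x hx => by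
    obtain ⟨j, W, hW, hxW, hg⟩ := hfib x hx
    exact Opens.mem_sSup.2 ⟨W, ⟨j, hW, hg⟩, hxW⟩
  have hcl : IsClosed (f.base '' (↑O : Set X)ᶜ) := f.isClosedMap _ O.2.isClosed_compl
  let U₁ : Y.Opens := U ⊓ ⟨(f.base '' (↑O : Set X)ᶜ)ᶜ, hcl.isOpen_compl⟩
  have hyU₁ : y ∈ U₁ := ⟨hyU, fun ⟨x, hx, hxy⟩ => hx (hO x hxy)⟩
  obtain ⟨U', hU', hyU', hle⟩ := exists_isAffineOpen_mem_and_subset (x := y) (U := U₁) hyU₁
  refine ⟨U', fun z hz => (hle hz).1, hU', hyU', fun x hx => ?_⟩
  have hxO : x ∈ O := by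
    by_contra h
    exact (hle hx).2 ⟨x, h, rfl⟩
  obtain ⟨V, ⟨j, hV, hVg⟩, hxV⟩ := Opens.mem_sSup.1 hxO
  refine ⟨j, V ⊓ f ⁻¹ᵁ U', inf_le_right, ⟨hxV, hx⟩, ?_⟩
  rw [res_res, ← res_res H (inf_le_left : V ⊓ f ⁻¹ᵁ U' ≤ V) hV]
  exact hVg.res _

/-- **Very ampleness spreads from a fibre without first cohomology.** -/
theorem exists_nhd_veryAmple {L : X.Modules} (hL : PicF.IsInvertible L) (y : Y)
    (hva : RelAmple.IsRelVeryAmplePn (f.fiberToSpecResidueField y) ((Scheme.Modules.pullback (f.fiberι y)).obj L))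
    (h1 : Subsingleton (CohIII.fiberH f L y 1)) :
    ∃ U : Y.Opens, y ∈ U ∧ IsAffineOpen U ∧ RelAmple.IsRelVeryAmplePn (f ∣_ U) (L.restrict (f ⁻¹ᵁ U).ι) := by
  obtain ⟨n, i, hi, hif, ⟨τ⟩⟩ := hva
  let ι := f.fiberι y
  let f' := f.fiberToSpecResidueField y
  let Ly := (Scheme.Modules.pullback ι).obj L
  obtain ⟨t, ht⟩ := exists_coordinate_sections i τ
  have hti : Coord (i ≫ pz n (Spec (Y.residueField y))) Ly t :=
    Coord.mk' (fun j => (ht j).1.symm) fun j => (ht j).2
  obtain ⟨U₀, h₀, s₀, c, -, hyU₀, hc, hs₀⟩ := exists_lift f L hL y h1 t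
  -- the sections generate along the fibre
  have hfib : ∀ x : X, f x = y → ∃ (j : Fin (n + 1)) (W : X.Opens) (hW : W ≤ f ⁻¹ᵁ U₀),
      x ∈ W ∧ IsGen (res L hW (s₀ j)) := fun x hx => by
    obtain ⟨z, rfl⟩ := (show x ∈ Set.range ι from by rw [Scheme.Hom.range_fiberι]; exact hx)
    obtain ⟨j, hj⟩ := exists_mem (i ≫ pz n _) z
    have hz : z ∈ CohB1.genLocus Ly (homOf (c • t j)) := by rw [genLocus_smul hc, ← hti.1 j]; exact hj
    obtain ⟨W, hW, hxW, hg⟩ := exists_gen_of_isGen_pullSectLE ι hL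
      (show CohB1.genLocus Ly (homOf (c • t j)) ≤ ι ⁻¹ᵁ (f ⁻¹ᵁ U₀) from le_top.trans h₀) (s₀ j) (by
        have h3 : res Ly (le_top : CohB1.genLocus Ly (homOf (c • t j)) ≤ ⊤) (c • t j) =
            ModDesc.pullSectLE ι L (f ⁻¹ᵁ U₀) _ (le_top.trans h₀) (s₀ j) := by
          rw [← hs₀ j]
          exact (ModDesc.res_pullSectLE ι L le_rfl le_top h₀ (le_top.trans h₀) (s₀ j)).trans
            (congrArg _ (QC.res_self _ _ _))
        rw [← h3]
        exact isGen_homOf (c • t j)) z hz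
    exact ⟨j, W, hW, hxW, hg⟩
  obtain ⟨U, hle, -, hyU, hcov⟩ := exists_affine_shrink f L y hyU₀ s₀ hfib
  let s := fun j => res L (f.preimage_mono hle) (s₀ j)
  have hU : (⊤ : (f.fiber y).Opens) ≤ ι ⁻¹ᵁ (f ⁻¹ᵁ U) := fun z _ => by
    change f (ι z) ∈ U
    have : f (ι z) = y := by
      have hz : ι z ∈ Set.range ι := ⟨z, rfl⟩
      rw [Scheme.Hom.range_fiberι] at hz
      exact hz
    rw [this]; exact hyU
  have hs : ∀ j, ModDesc.pullSectLE ι L (f ⁻¹ᵁ U) ⊤ hU (s j) = c • t j := fun j => by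
    rw [← hs₀ j, ← ModDesc.res_pullSectLE ι L (f.preimage_mono hle) le_rfl h₀ hU, QC.res_self]
  -- the morphism over `U`
  let j := (f ⁻¹ᵁ U).ι
  let M := (Scheme.Modules.pullback j).obj L
  have hM : PicF.IsInvertible M := PicLoc.isInvertible_pullback j hL
  have hj : (⊤ : (f ⁻¹ᵁ U).toScheme.Opens) ≤ j ⁻¹ᵁ (f ⁻¹ᵁ U) := fun x _ => x.2
  let σ : Fin (n + 1) → Γ(M, ⊤) := fun k => ModDesc.pullSectLE j L (f ⁻¹ᵁ U) ⊤ hj (s k)
  obtain ⟨φ, hφ, ⟨θ⟩, hφc⟩ := exists_toProjSpaceOver (f ∣_ U) hM σ (generatedBy_of_mem_genLocus σ fun x => by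
    obtain ⟨k, W, hW, hxW, hg⟩ := hcov (j x) x.2
    refine ⟨k, TMul.le_genLocus (homOf (σ k)) (U := j ⁻¹ᵁ W) ?_ hxW⟩
    rw [val_homOf, show res M (le_top : j ⁻¹ᵁ W ≤ ⊤) (σ k) = ModDesc.pullSectLE j L W (j ⁻¹ᵁ W) le_rfl (res L hW (s k))
      from ModDesc.res_pullSectLE j L hW le_top hj le_rfl (s k)]
    rw [show ModDesc.pullSectLE j L W (j ⁻¹ᵁ W) le_rfl (res L hW (s k)) = ProjMor.eta j L W (res L hW (s k))
      from QC.res_self _ _ _]
    exact C1Cap.isGen_eta _ hg)
  have hσ : Coord (φ ≫ pz n _) M σ := Coord.mk' (fun k => (hφc k).1) fun k => (hφc k).2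
  -- the fibre
  let l : f.fiber y ⟶ (f ⁻¹ᵁ U).toScheme := IsOpenImmersion.lift j ι (by
    rintro _ ⟨z, rfl⟩
    rw [Scheme.Opens.range_ι]
    exact hU (show z ∈ (⊤ : (f.fiber y).Opens) from trivial))
  have hlj : l ≫ j = ι := IsOpenImmersion.lift_fac _ _ _
  let g : Spec (Y.residueField y) ⟶ U.toScheme := IsOpenImmersion.lift U.ι (Y.fromSpecResidueField y) (by
    rw [Scheme.range_fromSpecResidueField, Scheme.Opens.range_ι]
    exact Set.singleton_subset_iff.2 hyU)
  have hg : g ≫ U.ι = Y.fromSpecResidueField y := IsOpenImmersion.lift_fac _ _ _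
  have hl : IsPullback l f' (f ∣_ U) g := by
    refine IsPullback.of_right ?_ ?_ (isPullback_morphismRestrict f U).flip
    · rw [hlj, hg]; exact IsPullback.of_hasPullback f (Y.fromSpecResidueField y)
    · rw [← cancel_mono U.ι, Category.assoc, morphismRestrict_ι, ← Category.assoc, hlj, Category.assoc, hg]
      exact pullback.condition
  have hfib : Coord (l ≫ φ ≫ pz n _) Ly fun k => c • t k := by
    have h2 := (Coord.pullback l hM hσ).map ((ModDesc.trIso l j hlj).app L)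
    refine (congrArg (Coord _ _) (funext fun k => ?_)).mp h2
    refine Eq.trans ?_ ((ModDesc.tr_pullSectLE l j hlj L hj le_top hU (s k)).trans (hs k))
    exact congrArg (((ModDesc.trIso l j hlj).hom.app L).app ⊤) (QC.res_self _ _ _).symm
  have he : l ≫ φ = i ≫ pMap n g := by
    refine pullback.hom_ext ?_ ?_
    · rw [Category.assoc, Category.assoc]
      refine (Coord.ext hfib (hti.smul hc)).trans ?_
      exact congrArg (i ≫ ·) (pMap_pz n g).symm
    · rw [Category.assoc, Category.assoc]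
      refine Eq.trans (congrArg (l ≫ ·) hφ) ?_
      rw [hl.w]
      refine Eq.trans (congrArg (· ≫ g) hif.symm) ?_
      rw [Category.assoc]
      exact congrArg (i ≫ ·) (pullback.lift_snd _ _ _).symm
  have hlφ : IsPullback l i φ (pMap n g) :=
    IsPullback.of_bot (by
      rw [show i ≫ CohB1.ProjSpaceOver.toBase n _ = f' from hif, hφ]
      exact hl) he (isPullback_pMap n g)
  haveI := HQProj.isProper_toBase n U.toScheme
  haveI := HQProj.isProper_toBase n (Spec (Y.residueField y))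
  haveI : IsProper (φ ≫ CohB1.ProjSpaceOver.toBase n U.toScheme) := by
    rw [hφ]; exact IsZariskiLocalAtTarget.restrict (P := @IsProper) inferInstance U
  haveI : IsProper φ := IsProper.of_comp φ (CohB1.ProjSpaceOver.toBase n U.toScheme)
  haveI : IsProper (i ≫ CohB1.ProjSpaceOver.toBase n (Spec (Y.residueField y))) := by
    rw [show i ≫ CohB1.ProjSpaceOver.toBase n _ = f' from hif]
    exact MorphismProperty.pullback_snd _ _ inferInstance
  haveI : IsProper i := IsProper.of_comp i (CohB1.ProjSpaceOver.toBase n (Spec (Y.residueField y)))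
  haveI := isClosedImmersion_of_isImmersion_of_proper i
  obtain ⟨O, hyO, hO⟩ := exists_nhd_isClosedImmersion φ (CohB1.ProjSpaceOver.toBase n U.toScheme) ⟨y, hyU⟩ g
    (fun K _ a ha => by
      obtain ⟨⟨z, ε⟩, hz⟩ := (Scheme.SpecToEquivOfField K Y).symm.surjective (a ≫ U.ι)
      have hz' : Spec.map ε ≫ Y.fromSpecResidueField z = a ≫ U.ι := hz
      have hzy : z = y := by
        have := congrArg (fun q : Spec (CommRingCat.of K) ⟶ Y => q (closedPoint K)) hz'
        simp only [Scheme.Hom.comp_apply, Scheme.fromSpecResidueField_apply, ha] at this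
        exact this
      subst hzy
      exact ⟨Spec.map ε, by rw [← cancel_mono U.ι, Category.assoc, hg]; exact hz'⟩)
    (pMap n g) _ (isPullback_pMap n g) l i hlφ
  -- shrink the base
  obtain ⟨U', hU', hyU', hU'O⟩ := exists_isAffineOpen_mem_and_subset (x := y) (U := U.ι ''ᵁ O) ⟨⟨y, hyU⟩, hyO, rfl⟩
  refine ⟨U', hyU', hU', ?_⟩
  have hle' : U' ≤ U := fun z hz => by
    obtain ⟨w, -, rfl⟩ := hU'O hz
    exact w.2
  let e := X.homOfLE (f.preimage_mono hle')
  let k := Y.homOfLE hle'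
  have he' : IsPullback e (f ∣_ U') (f ∣_ U) k := by
    refine IsPullback.of_right ?_ ?_ (isPullback_morphismRestrict f U).flip
    · rw [Scheme.homOfLE_ι, Scheme.homOfLE_ι]; exact (isPullback_morphismRestrict f U').flip
    · rw [← cancel_mono U.ι, Category.assoc, Category.assoc, morphismRestrict_ι, Scheme.homOfLE_ι,
        Scheme.homOfLE_ι_assoc, morphismRestrict_ι]
  let φ' := (isPullback_pMap n k).lift (e ≫ φ) (f ∣_ U') (by rw [Category.assoc, hφ]; exact he'.w)
  have hφ'1 : φ' ≫ pMap n k = e ≫ φ := IsPullback.lift_fst _ _ _ _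
  have hφ'2 : φ' ≫ CohB1.ProjSpaceOver.toBase n _ = f ∣_ U' := IsPullback.lift_snd _ _ _ _
  have hsq : IsPullback e φ' φ (pMap n k) :=
    IsPullback.of_bot (by rw [hφ'2, hφ]; exact he') hφ'1.symm (isPullback_pMap n k)
  haveI : IsOpenImmersion (pMap n k) :=
    MorphismProperty.of_isPullback (P := @IsOpenImmersion) (isPullback_pMap n k).flip inferInstance
  let O' : (CohB1.ProjSpaceOver n U.toScheme).Opens := CohB1.ProjSpaceOver.toBase n U.toScheme ⁻¹ᵁ O
  have hrange : Set.range (pMap n k) ⊆ Set.range O'.ι := by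
    rintro _ ⟨p, rfl⟩
    rw [Scheme.Opens.range_ι]
    change (pMap n k ≫ CohB1.ProjSpaceOver.toBase n U.toScheme) p ∈ O
    rw [(isPullback_pMap n k).w]
    obtain ⟨w, hw, hwp⟩ := hU'O (CohB1.ProjSpaceOver.toBase n U'.toScheme p).2
    have : (CohB1.ProjSpaceOver.toBase n U'.toScheme ≫ k) p = w := by
      refine U.ι.isOpenEmbedding.injective (Eq.trans ?_ hwp.symm)
      rw [← Scheme.Hom.comp_apply, Category.assoc, Scheme.homOfLE_ι]
      rfl
    rw [this]; exact hw
  haveI : IsClosedImmersion φ' := by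
    have h3 := hsq
    rw [← IsOpenImmersion.lift_fac O'.ι (pMap n k) hrange] at h3
    exact MorphismProperty.of_isPullback (P := @IsClosedImmersion)
      (IsPullback.of_right' h3 (isPullback_morphismRestrict φ O').flip) hO
  refine ⟨n, φ', inferInstance, hφ'2, ⟨?_⟩⟩
  exact (Scheme.Modules.restrictFunctorIsoPullback _).app L ≪≫
    ((ModDesc.trIso e j (X.homOfLE_ι (f.preimage_mono hle'))).app L).symm ≪≫
    (Scheme.Modules.pullback e).mapIso θ ≪≫
    (ModDesc.trIso e φ rfl).app _ ≪≫ ((ModDesc.trIso φ' (pMap n k) hφ'1).app _).symm ≪≫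
    (Scheme.Modules.pullback φ').mapIso ((ModDesc.trIso (pMap n k) (pz n U.toScheme) (pMap_pz n k)).app _)

end Groth.Agent.CurveFam
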