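import Groth.Agent.CurveFam.Omega
import Groth.Agent.CurveFam.VAmpleLfp
import Groth.Agent.CurveVA.Main
import Groth.Agent.PnSpec.Twist
import Groth.Agent.ClosedRep.GeomIntegral
import Groth.Agent.S12481

/-!
The pluricanonical modules of a family of curves of genus `≥ 2` are relatively very ample.
-/

set_option autoImplicit false
set_option backward.isDefEq.respectTransparency false
set_option backward.isDefEq.respectTransparency.types false
set_option linter.style.haveILetI false

universe u

open CategoryTheory CategoryTheory.Limits AlgebraicGeometry TopologicalSpace Opposite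

noncomputable section

namespace Groth.Agent.CurveFam

/-- An embedding into `P^n_k` is one into `P^n` over `Spec k`. -/
theorem isRelVeryAmplePn_of_projSpace {k : Type u} [Field k] {X : Scheme.{u}} {f : X ⟶ Spec (CommRingCat.of k)}
    {L : X.Modules} {n : ℕ} (i : X ⟶ CohB1.ProjSpace n k) [IsImmersion i]
    (hi : i ≫ CohB1.ProjSpace.toSpec n k = f)
    (τ : (Scheme.Modules.pullback i).obj (Twist.twistProjSpace n k 1) ≅ L) :
    RelAmple.IsRelVeryAmplePn f L := by
  obtain ⟨e, he, htw⟩ := PnSpec.exists_iso_twist n k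
  obtain ⟨φ⟩ := htw 1
  exact ⟨n, i ≫ e.hom, inferInstance, ((Category.assoc _ _ _).trans (congrArg (i ≫ ·) he)).trans hi,
    ⟨τ.symm ≪≫ (Scheme.Modules.pullback i).mapIso φ.symm ≪≫ (Scheme.Modules.pullbackComp i e.hom).app _⟩⟩

variable {X S : Scheme.{u}} (f : X ⟶ S) [IsProper f] [Smooth f] [GeometricallyConnected f]
  (hdim : ∀ s : S, topologicalKrullDim ↥(f.fiber s) = 1)

include hdim in
/-- Near every point a pluricanonical module with `n ≥ 3` embeds into a projective space. -/
theorem exists_nhd_pluri {g : ℕ} (hg : 2 ≤ g)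
    (hgen : ∀ s : S, letI : (f.fiber s).Over (Spec (S.residueField s)) := ⟨f.fiberToSpecResidueField s⟩
      Curv2.genus (S.residueField s) (f.fiber s) = g) {n : ℕ} (hn : 3 ≤ n) (s : S) :
    ∃ U : S.Opens, s ∈ U ∧ IsAffineOpen U ∧
      RelAmple.IsRelVeryAmplePn (f ∣_ U) ((CohB1.tensorPow (Omega.sheaf f) n).restrict (f ⁻¹ᵁ U).ι) := by
  have hL := TMul.isInvertible_tensorPow (isInvertible_omega f hdim) n
  obtain ⟨h1, -, hdeg⟩ := pluri_fiber f hdim hg hgen (by omega : 2 ≤ n) s
  refine exists_nhd_veryAmple f hL s ?_ h1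
  letI : (f.fiber s).Over (Spec (S.residueField s)) := ⟨f.fiberToSpecResidueField s⟩
  haveI : IsProper (f.fiber s ↘ Spec (CommRingCat.of (S.residueField s))) :=
    MorphismProperty.pullback_snd _ _ ‹IsProper f›
  haveI : Smooth (f.fiber s ↘ Spec (CommRingCat.of (S.residueField s))) :=
    MorphismProperty.pullback_snd _ _ ‹Smooth f›
  haveI : GeometricallyConnected (f.fiber s ↘ Spec (CommRingCat.of (S.residueField s))) :=
    MorphismProperty.pullback_snd _ _ ‹GeometricallyConnected f›
  haveI := ClosedRep.GeomIntegral.geometricallyIntegral_of_smooth (f.fiber s ↘ Spec (CommRingCat.of (S.residueField s)))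
  obtain ⟨N, i, hi, hif, ⟨τ⟩⟩ := CurveVA.exists_closedImmersion (k := S.residueField s) (hdim s) (h0_fiber f s)
    (PicLoc.isInvertible_pullback (f.fiberι s) hL) (by
      rw [hdeg, hgen s]
      have h2 : (3 : ℤ) * (2 * (g : ℤ) - 2) ≤ n * (2 * (g : ℤ) - 2) :=
        mul_le_mul_of_nonneg_right (by exact_mod_cast hn) (by omega)
      omega)
  haveI := hi
  exact isRelVeryAmplePn_of_projSpace i hif τ

include hdim in
/-- The pluricanonical modules with `n ≥ 3` are relatively very ample. -/
theorem isRelVeryAmple_pluri {g : ℕ} (hg : 2 ≤ g)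
    (hgen : ∀ s : S, letI : (f.fiber s).Over (Spec (S.residueField s)) := ⟨f.fiberToSpecResidueField s⟩
      Curv2.genus (S.residueField s) (f.fiber s) = g) {n : ℕ} (hn : 3 ≤ n) :
    RelProj.IsRelVeryAmple f (CohB1.tensorPow (Omega.sheaf f) n) := by
  choose U hyU _ hU using exists_nhd_pluri f hdim hg hgen hn
  exact S12481.result f _ (TMul.isInvertible_tensorPow (isInvertible_omega f hdim) n) U
    (top_le_iff.1 fun y _ => Opens.mem_iSup.2 ⟨y, hyU y⟩) hU

end Groth.Agent.CurveFam
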