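/-
A smooth proper family of genus zero curves with a section is locally a projective line.
-/
import Groth.Agent.CurveFam.VAmpleLfp
import Groth.Agent.CurveFam.Pluri
import Groth.Agent.AbelMap.Degree
import Groth.Agent.SectCartier.Basic
import Groth.Agent.SubgrpLocus.Basic
import Groth.Agent.FibreFlat.Scheme
import Groth.Agent.CurveRR.Easy3
import Groth.Agent.PnSpec.Basic
import Groth.Agent.PnSpec.Twist
import Groth.Agent.InfLift.SchemeSmallExt

set_option autoImplicit false
set_option backward.isDefEq.respectTransparency false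
set_option backward.isDefEq.respectTransparency.types false
set_option linter.style.haveILetI false
set_option linter.unusedSectionVars false
set_option maxHeartbeats 1000000

universe u

open CategoryTheory CategoryTheory.Limits AlgebraicGeometry TopologicalSpace Opposite
open Groth.Agent.QC (res res_res res_smul app_res)
open TMul (IsGen tm val homOf val_homOf)
open IsLocalRing ProjMor

noncomputable section

namespace Groth.Agent.CurveFam

open W7Hull VAmpleNear

variable {X Y : Scheme.{u}}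

/-- A closed immersion of a fibre without first cohomology into a projective space spreads in the same dimension. -/
theorem exists_nhd_closedImmersion (f : X ⟶ Y) [IsProper f] [Flat f] [LocallyOfFinitePresentation f]
    {L : X.Modules} (hL : PicF.IsInvertible L) (y : Y) {n : ℕ}
    (i : f.fiber y ⟶ CohB1.ProjSpaceOver n (Spec (Y.residueField y))) (hi : IsImmersion i)
    (hif : i ≫ CohB1.ProjSpaceOver.toBase n (Spec (Y.residueField y)) = f.fiberToSpecResidueField y)
    (τ : (Scheme.Modules.pullback (f.fiberι y)).obj L ≅ (Scheme.Modules.pullback i).obj (Twist.twistOver n _ 1))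
    (h1 : Subsingleton (CohIII.fiberH f L y 1)) :
    ∃ U : Y.Opens, y ∈ U ∧ IsAffineOpen U ∧ ∃ φ : (f ⁻¹ᵁ U).toScheme ⟶ CohB1.ProjSpaceOver n U.toScheme,
      IsClosedImmersion φ ∧ φ ≫ CohB1.ProjSpaceOver.toBase n U.toScheme = f ∣_ U := by
  let ι := f.fiberι y
  let f' := f.fiberToSpecResidueField y
  let Ly := (Scheme.Modules.pullback ι).obj L
  obtain ⟨t, ht⟩ := exists_coordinate_sections i τ
  have hti : Coord (i ≫ pz n (Spec (Y.residueField y))) Ly t :=
    Coord.mk' (fun j => (ht j).1.symm) fun j => (ht j).2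
  obtain ⟨U₀, h₀, s₀, c, -, hyU₀, hc, hs₀⟩ := exists_lift f L hL y h1 t
  -- the sections generate along the fibre
  have hfib : ∀ x : X, f x = y → ∃ (j : Fin (n + 1)) (W : X.Opens) (hW : W ≤ f ⁻¹ᵁ U₀),
      x ∈ W ∧ IsGen (res L hW (s₀ j)) := fun x hx => by
    obtain ⟨z, rfl⟩ := (show x ∈ Set.range ι from by rw [Scheme.Hom.range_fiberι]; exact hx)
    obtain ⟨j, hj⟩ := exists_mem (i ≫ pz n _) z
    have hz : z ∈ CohB1.genLocus Ly (homOf (c • t j)) := by rw [genLocus_smul hc, ← hti.1 j]; exact hj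
    obtain ⟨W, hW, hxW, hg⟩ := exists_gen_of_isGen_pullSectLE ι hL
      (show CohB1.genLocus Ly (homOf (c • t j)) ≤ ι ⁻¹ᵁ (f ⁻¹ᵁ U₀) from le_top.trans h₀) (s₀ j) (by
        have h3 : res Ly (le_top : CohB1.genLocus Ly (homOf (c • t j)) ≤ ⊤) (c • t j) =
            ModDesc.pullSectLE ι L (f ⁻¹ᵁ U₀) _ (le_top.trans h₀) (s₀ j) := by
          rw [← hs₀ j]
          exact (ModDesc.res_pullSectLE ι L le_rfl le_top h₀ (le_top.trans h₀) (s₀ j)).trans
            (congrArg _ (QC.res_self _ _ _))
        rw [← h3]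
        exact isGen_homOf (c • t j)) z hz
    exact ⟨j, W, hW, hxW, hg⟩
  obtain ⟨U, hle, -, hyU, hcov⟩ := exists_affine_shrink f L y hyU₀ s₀ hfib
  let s := fun j => res L (f.preimage_mono hle) (s₀ j)
  have hU : (⊤ : (f.fiber y).Opens) ≤ ι ⁻¹ᵁ (f ⁻¹ᵁ U) := fun z _ => by
    change f (ι z) ∈ U
    have : f (ι z) = y := by
      have hz : ι z ∈ Set.range ι := ⟨z, rfl⟩
      rw [Scheme.Hom.range_fiberι] at hz
      exact hz
    rw [this]; exact hyU
  have hs : ∀ j, ModDesc.pullSectLE ι L (f ⁻¹ᵁ U) ⊤ hU (s j) = c • t j := fun j => by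
    rw [← hs₀ j, ← ModDesc.res_pullSectLE ι L (f.preimage_mono hle) le_rfl h₀ hU, QC.res_self]
  -- the morphism over `U`
  let j := (f ⁻¹ᵁ U).ι
  let M := (Scheme.Modules.pullback j).obj L
  have hM : PicF.IsInvertible M := PicLoc.isInvertible_pullback j hL
  have hj : (⊤ : (f ⁻¹ᵁ U).toScheme.Opens) ≤ j ⁻¹ᵁ (f ⁻¹ᵁ U) := fun x _ => x.2
  let σ : Fin (n + 1) → Γ(M, ⊤) := fun k => ModDesc.pullSectLE j L (f ⁻¹ᵁ U) ⊤ hj (s k)
  obtain ⟨φ, hφ, ⟨θ⟩, hφc⟩ := exists_toProjSpaceOver (f ∣_ U) hM σ (generatedBy_of_mem_genLocus σ fun x => by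
    obtain ⟨k, W, hW, hxW, hg⟩ := hcov (j x) x.2
    refine ⟨k, TMul.le_genLocus (homOf (σ k)) (U := j ⁻¹ᵁ W) ?_ hxW⟩
    rw [val_homOf, show res M (le_top : j ⁻¹ᵁ W ≤ ⊤) (σ k) = ModDesc.pullSectLE j L W (j ⁻¹ᵁ W) le_rfl (res L hW (s k))
      from ModDesc.res_pullSectLE j L hW le_top hj le_rfl (s k)]
    rw [show ModDesc.pullSectLE j L W (j ⁻¹ᵁ W) le_rfl (res L hW (s k)) = ProjMor.eta j L W (res L hW (s k))
      from QC.res_self _ _ _]
    exact C1Cap.isGen_eta _ hg)
  have hσ : Coord (φ ≫ pz n _) M σ := Coord.mk' (fun k => (hφc k).1) fun k => (hφc k).2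
  -- the fibre
  let l : f.fiber y ⟶ (f ⁻¹ᵁ U).toScheme := IsOpenImmersion.lift j ι (by
    rintro _ ⟨z, rfl⟩
    rw [Scheme.Opens.range_ι]
    exact hU (show z ∈ (⊤ : (f.fiber y).Opens) from trivial))
  have hlj : l ≫ j = ι := IsOpenImmersion.lift_fac _ _ _
  let g : Spec (Y.residueField y) ⟶ U.toScheme := IsOpenImmersion.lift U.ι (Y.fromSpecResidueField y) (by
    rw [Scheme.range_fromSpecResidueField, Scheme.Opens.range_ι]
    exact Set.singleton_subset_iff.2 hyU)
  have hg : g ≫ U.ι = Y.fromSpecResidueField y := IsOpenImmersion.lift_fac _ _ _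
  have hl : IsPullback l f' (f ∣_ U) g := by
    refine IsPullback.of_right ?_ ?_ (isPullback_morphismRestrict f U).flip
    · rw [hlj, hg]; exact IsPullback.of_hasPullback f (Y.fromSpecResidueField y)
    · rw [← cancel_mono U.ι, Category.assoc, morphismRestrict_ι, ← Category.assoc, hlj, Category.assoc, hg]
      exact pullback.condition
  have hfib : Coord (l ≫ φ ≫ pz n _) Ly fun k => c • t k := by
    have h2 := (Coord.pullback l hM hσ).map ((ModDesc.trIso l j hlj).app L)
    refine (congrArg (Coord _ _) (funext fun k => ?_)).mp h2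
    refine Eq.trans ?_ ((ModDesc.tr_pullSectLE l j hlj L hj le_top hU (s k)).trans (hs k))
    exact congrArg (((ModDesc.trIso l j hlj).hom.app L).app ⊤) (QC.res_self _ _ _).symm
  have he : l ≫ φ = i ≫ pMap n g := by
    refine pullback.hom_ext ?_ ?_
    · rw [Category.assoc, Category.assoc]
      refine (Coord.ext hfib (hti.smul hc)).trans ?_
      exact congrArg (i ≫ ·) (pMap_pz n g).symm
    · rw [Category.assoc, Category.assoc]
      refine Eq.trans (congrArg (l ≫ ·) hφ) ?_
      rw [hl.w]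
      refine Eq.trans (congrArg (· ≫ g) hif.symm) ?_
      rw [Category.assoc]
      exact congrArg (i ≫ ·) (pullback.lift_snd _ _ _).symm
  have hlφ : IsPullback l i φ (pMap n g) :=
    IsPullback.of_bot (by
      rw [show i ≫ CohB1.ProjSpaceOver.toBase n _ = f' from hif, hφ]
      exact hl) he (isPullback_pMap n g)
  haveI := HQProj.isProper_toBase n U.toScheme
  haveI := HQProj.isProper_toBase n (Spec (Y.residueField y))
  haveI : IsProper (φ ≫ CohB1.ProjSpaceOver.toBase n U.toScheme) := by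
    rw [hφ]; exact IsZariskiLocalAtTarget.restrict (P := @IsProper) inferInstance U
  haveI : IsProper φ := IsProper.of_comp φ (CohB1.ProjSpaceOver.toBase n U.toScheme)
  haveI : IsProper (i ≫ CohB1.ProjSpaceOver.toBase n (Spec (Y.residueField y))) := by
    rw [show i ≫ CohB1.ProjSpaceOver.toBase n _ = f' from hif]
    exact MorphismProperty.pullback_snd _ _ inferInstance
  haveI : IsProper i := IsProper.of_comp i (CohB1.ProjSpaceOver.toBase n (Spec (Y.residueField y)))
  haveI := isClosedImmersion_of_isImmersion_of_proper i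
  obtain ⟨O, hyO, hO⟩ := exists_nhd_isClosedImmersion φ (CohB1.ProjSpaceOver.toBase n U.toScheme) ⟨y, hyU⟩ g
    (fun K _ a ha => by
      obtain ⟨⟨z, ε⟩, hz⟩ := (Scheme.SpecToEquivOfField K Y).symm.surjective (a ≫ U.ι)
      have hz' : Spec.map ε ≫ Y.fromSpecResidueField z = a ≫ U.ι := hz
      have hzy : z = y := by
        have := congrArg (fun q : Spec (CommRingCat.of K) ⟶ Y => q (closedPoint K)) hz'
        simp only [Scheme.Hom.comp_apply, Scheme.fromSpecResidueField_apply, ha] at this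
        exact this
      subst hzy
      exact ⟨Spec.map ε, by rw [← cancel_mono U.ι, Category.assoc, hg]; exact hz'⟩)
    (pMap n g) _ (isPullback_pMap n g) l i hlφ
  -- shrink the base
  obtain ⟨U', hU', hyU', hU'O⟩ := exists_isAffineOpen_mem_and_subset (x := y) (U := U.ι ''ᵁ O) ⟨⟨y, hyU⟩, hyO, rfl⟩
  refine ⟨U', hyU', hU', ?_⟩
  have hle' : U' ≤ U := fun z hz => by
    obtain ⟨w, -, rfl⟩ := hU'O hz
    exact w.2
  let e := X.homOfLE (f.preimage_mono hle')
  let k := Y.homOfLE hle'
  have he' : IsPullback e (f ∣_ U') (f ∣_ U) k := by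
    refine IsPullback.of_right ?_ ?_ (isPullback_morphismRestrict f U).flip
    · rw [Scheme.homOfLE_ι, Scheme.homOfLE_ι]; exact (isPullback_morphismRestrict f U').flip
    · rw [← cancel_mono U.ι, Category.assoc, Category.assoc, morphismRestrict_ι, Scheme.homOfLE_ι,
        Scheme.homOfLE_ι_assoc, morphismRestrict_ι]
  let φ' := (isPullback_pMap n k).lift (e ≫ φ) (f ∣_ U') (by rw [Category.assoc, hφ]; exact he'.w)
  have hφ'1 : φ' ≫ pMap n k = e ≫ φ := IsPullback.lift_fst _ _ _ _
  have hφ'2 : φ' ≫ CohB1.ProjSpaceOver.toBase n _ = f ∣_ U' := IsPullback.lift_snd _ _ _ _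
  have hsq : IsPullback e φ' φ (pMap n k) :=
    IsPullback.of_bot (by rw [hφ'2, hφ]; exact he') hφ'1.symm (isPullback_pMap n k)
  haveI : IsOpenImmersion (pMap n k) :=
    MorphismProperty.of_isPullback (P := @IsOpenImmersion) (isPullback_pMap n k).flip inferInstance
  let O' : (CohB1.ProjSpaceOver n U.toScheme).Opens := CohB1.ProjSpaceOver.toBase n U.toScheme ⁻¹ᵁ O
  have hrange : Set.range (pMap n k) ⊆ Set.range O'.ι := by
    rintro _ ⟨p, rfl⟩
    rw [Scheme.Opens.range_ι]
    change (pMap n k ≫ CohB1.ProjSpaceOver.toBase n U.toScheme) p ∈ O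
    rw [(isPullback_pMap n k).w]
    obtain ⟨w, hw, hwp⟩ := hU'O (CohB1.ProjSpaceOver.toBase n U'.toScheme p).2
    have : (CohB1.ProjSpaceOver.toBase n U'.toScheme ≫ k) p = w := by
      refine U.ι.isOpenEmbedding.injective (Eq.trans ?_ hwp.symm)
      rw [← Scheme.Hom.comp_apply, Category.assoc, Scheme.homOfLE_ι]
      rfl
    rw [this]; exact hw
  haveI : IsClosedImmersion φ' := by
    have h3 := hsq
    rw [← IsOpenImmersion.lift_fac O'.ι (pMap n k) hrange] at h3
    exact MorphismProperty.of_isPullback (P := @IsClosedImmersion)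
      (IsPullback.of_right' h3 (isPullback_morphismRestrict φ O').flip) hO
  exact ⟨φ', inferInstance, hφ'2⟩


/-- One geometric fibre over a point decides the basic invariants of the fibre at that point. -/
theorem genusZero_fiber {X S : Scheme.{u}} (f : X ⟶ S) [Smooth f] [IsProper f]
    (Ω : Type u) [Field Ω] [IsAlgClosed Ω] (x : Spec (CommRingCat.of Ω) ⟶ S)
    (hint : IsIntegral (pullback f x)) (hdimX : topologicalKrullDim ↥(pullback f x) = 1)
    (hgen : @Curv2.genus Ω _ (pullback f x) ⟨pullback.snd f x⟩ = 0) (s : S)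
    (hs : x (IsLocalRing.closedPoint Ω) = s) :
    letI : (f.fiber s).Over (Spec (S.residueField s)) := ⟨f.fiberToSpecResidueField s⟩
    IsIntegral (f.fiber s) ∧ topologicalKrullDim ↥(f.fiber s) = 1 ∧
      CurveRR.h (S.residueField s) (Coh.structureModule (f.fiber s)) 0 = 1 ∧
      Curv2.genus (S.residueField s) (f.fiber s) = 0 := by
  let κ := S.residueField s
  let F := f.fiber s
  letI : F.Over (Spec (CommRingCat.of κ)) := ⟨f.fiberToSpecResidueField s⟩
  obtain ⟨⟨z, ε⟩, hz⟩ := (Scheme.SpecToEquivOfField Ω S).symm.surjective x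
  have hz' : Spec.map ε ≫ S.fromSpecResidueField z = x := hz
  have hzs : z = s := by
    rw [← hs, ← hz', Scheme.Hom.comp_apply]
    exact (Scheme.fromSpecResidueField_apply _ _).symm
  subst z
  letI : Algebra κ Ω := ε.hom.toAlgebra
  let g : Spec (CommRingCat.of Ω) ⟶ Spec (CommRingCat.of κ) := Spec.map (CommRingCat.ofHom (algebraMap κ Ω))
  have hx : g ≫ S.fromSpecResidueField s = x := hz'
  let X' := pullback f x
  letI : X'.Over (Spec (CommRingCat.of Ω)) := ⟨pullback.snd f x⟩
  haveI : IsIntegral X' := hint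
  haveI : IsProper (F ↘ Spec (CommRingCat.of κ)) := MorphismProperty.pullback_snd _ _ ‹IsProper f›
  haveI : Smooth (F ↘ Spec (CommRingCat.of κ)) := MorphismProperty.pullback_snd _ _ ‹Smooth f›
  haveI : IsProper (X' ↘ Spec (CommRingCat.of Ω)) := MorphismProperty.pullback_snd _ _ ‹IsProper f›
  haveI := CurveRR.isNoetherian_of_proper κ F
  let q : X' ⟶ F := pullback.lift (pullback.fst f x) (pullback.snd f x ≫ g)
    (by rw [Category.assoc, hx]; exact pullback.condition)
  have hq : IsPullback q (X' ↘ Spec (CommRingCat.of Ω)) (F ↘ Spec (CommRingCat.of κ)) g :=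
    IsPullback.of_right (by
      convert IsPullback.of_hasPullback f x using 1
      exacts [pullback.lift_fst _ _ _, rfl]) (pullback.lift_snd _ _ _)
      (IsPullback.of_hasPullback f (S.fromSpecResidueField s))
  have hh : ∀ i, CurveRR.h Ω (Coh.structureModule X') i = CurveRR.h κ (Coh.structureModule F) i := fun i => by
    obtain ⟨e⟩ := W7FlatBC.nonempty_hh_baseChange κ Ω q hq (Coh.structureModule F) RefStalk.isCoh_structureModule.1 i
    rw [← CurveRR.h_eq_of_iso (PicLoc.pullbackStructureIso q) i]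
    exact e.finrank_eq.symm.trans (Module.finrank_baseChange (R := Ω))
  haveI : Surjective g := ⟨fun _ => ⟨IsLocalRing.closedPoint _, Subsingleton.elim _ _⟩⟩
  haveI : Surjective q := MorphismProperty.of_isPullback (P := @Surjective) hq.flip inferInstance
  haveI : IrreducibleSpace F := by
    haveI : PreirreducibleSpace F := ⟨by
      simpa [Set.image_univ, q.surjective.range_eq] using
        (PreirreducibleSpace.isPreirreducible_univ (X := X')).image q q.continuous.continuousOn⟩
    exact { toNonempty := Nonempty.map q inferInstance }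
  haveI : AlgebraicGeometry.IsReduced F := by
    haveI : ∀ y : F, _root_.IsReduced (F.presheaf.stalk y) := fun y => by
      haveI := SmLocalST.isRegularLocalRing_stalk_of_smooth_field (F ↘ Spec (CommRingCat.of κ)) y
      haveI := Groth.Agent.S0558.result (F.presheaf.stalk y)
      infer_instance
    exact AlgebraicGeometry.isReduced_of_isReduced_stalk F
  refine ⟨isIntegral_of_irreducibleSpace_of_isReduced F, ?_, ?_, ?_⟩
  · let y : Spec (CommRingCat.of Ω) := IsLocalRing.closedPoint Ω
    haveI : IsIso ((Spec (CommRingCat.of Ω)).fromSpecResidueField y) := AssTensor.isIso_fromSpecResidueField _ y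
    haveI : IsIso ((X' ↘ Spec (CommRingCat.of Ω)).fiberι y) :=
      inferInstanceAs (IsIso (pullback.fst _ ((Spec (CommRingCat.of Ω)).fromSpecResidueField y)))
    have h1 := IsHomeomorph.topologicalKrullDim_eq _ (Homeomorph.isHomeomorph (Scheme.homeoOfIso
      (asIso ((X' ↘ Spec (CommRingCat.of Ω)).fiberι y))))
    have h2 := DimField.dim_fiber_eq_of_isPullback
      (IsPullback.of_hasPullback f x : IsPullback (pullback.fst f x) (X' ↘ Spec (CommRingCat.of Ω)) f x) y
    have h3 : x y = s := hs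
    rw [← h3]
    exact h2.symm.trans (h1.trans hdimX)
  · rw [← hh 0]
    exact CurveRR.h0_structure Ω X'
  · exact (hh 1).symm.trans hgen

/-- A section spans an invertible module of degree one on every fibre. -/
theorem exists_deg_one {X S : Scheme.{u}} (f : X ⟶ S) [Smooth f] [IsProper f]
    (hint : ∀ s : S, IsIntegral (f.fiber s)) (hdim : ∀ s : S, topologicalKrullDim ↥(f.fiber s) = 1)
    (σ : S ⟶ X) (hσ : σ ≫ f = 𝟙 S) :
    ∃ L : X.Modules, PicF.IsInvertible L ∧ ∀ s : S,
      letI : (f.fiber s).Over (Spec (S.residueField s)) := ⟨f.fiberToSpecResidueField s⟩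
      Curv2.deg (S.residueField s) (f.fiber s) ((Scheme.Modules.pullback (f.fiberι s)).obj L) 1 = 1 := by
  haveI : SmoothOfRelativeDimension 1 f := SubgrpLocus.smoothOfRelativeDimension_of_fibreDimAt f 1 fun x => by
    haveI := hint (f x)
    haveI : LocallyOfFiniteType (f.fiberToSpecResidueField (f x)) := MorphismProperty.pullback_snd _ _ inferInstance
    exact (SectRank.localDim_eq_dim (k := S.residueField (f x)) (f.fiberToSpecResidueField (f x)) (f.asFiber x)).trans
      (hdim (f x))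
  haveI : IsClosedImmersion σ := by
    haveI : IsClosedImmersion (σ ≫ f) := by rw [hσ]; infer_instance
    exact IsClosedImmersion.of_comp σ f
  have hE := SectCartier.isEffCartierIdeal_ker f σ hσ
  have hI : PicF.IsInvertible (ClSub.idealMod σ.ker) := (Groth.Agent.S8914.result σ.ker).2 hE
  obtain ⟨L, hL, ⟨e⟩⟩ := W7Hull.exists_tensor_inverse hI
  refine ⟨L, hL, fun s => ?_⟩
  let κ := S.residueField s
  let F := f.fiber s
  letI : F.Over (Spec (CommRingCat.of κ)) := ⟨f.fiberToSpecResidueField s⟩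
  haveI : IsIntegral F := hint s
  haveI : IsProper (F ↘ Spec (CommRingCat.of κ)) := MorphismProperty.pullback_snd _ _ ‹IsProper f›
  haveI : Smooth (F ↘ Spec (CommRingCat.of κ)) := MorphismProperty.pullback_snd _ _ ‹Smooth f›
  haveI := CurveRR.isNoetherian_of_proper κ F
  let τ : Spec (CommRingCat.of κ) ⟶ F := pullback.lift (S.fromSpecResidueField s ≫ σ) (𝟙 _)
    (by rw [Category.assoc, hσ, Category.comp_id, Category.id_comp])
  have hτ : τ ≫ (F ↘ Spec (CommRingCat.of κ)) = 𝟙 _ := pullback.lift_snd _ _ _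
  have hsq : IsPullback (S.fromSpecResidueField s) τ σ (f.fiberι s) :=
    IsPullback.of_bot (v₂₁ := pullback.snd f (S.fromSpecResidueField s)) (v₂₂ := f) (by
        rw [hσ]
        convert IsPullback.of_vert_isIso (fst := S.fromSpecResidueField s) (snd := 𝟙 _) (f := 𝟙 S)
          (g := S.fromSpecResidueField s) ⟨(Category.comp_id _).trans (Category.id_comp _).symm⟩ using 1
        exact pullback.lift_snd _ _ _) (pullback.lift_fst _ _ _).symm
      (IsPullback.of_hasPullback f (S.fromSpecResidueField s))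
  haveI : IsClosedImmersion τ := MorphismProperty.of_isPullback (P := @IsClosedImmersion) hsq inferInstance
  let P := τ (IsLocalRing.closedPoint κ)
  have hτP : ∀ p, τ p = P := fun p => by
    haveI : Subsingleton (Spec (CommRingCat.of κ)) := inferInstanceAs (Subsingleton (PrimeSpectrum κ))
    rw [Subsingleton.elim p (IsLocalRing.closedPoint κ)]
  have hr : Set.range τ = {P} := Set.eq_singleton_iff_unique_mem.2 ⟨⟨_, rfl⟩, by
    rintro _ ⟨z, rfl⟩
    exact hτP z⟩
  have hP : IsClosed ({P} : Set F) := hr ▸ τ.isClosedEmbedding.isClosed_range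
  have hker : σ.ker.comap (f.fiberι s) = Scheme.IdealSheafData.vanishingIdeal ⟨{P}, hP⟩ := by
    rw [← AlmostBlow.ker_of_isPullback hsq, Nakai.ker_eq_vanishingIdeal]
    refine congrArg _ (Closeds.ext ?_)
    rw [Scheme.Hom.support_ker]
    show closure (Set.range τ) = _
    rw [hr, hP.closure_eq]
    rfl
  have hJ := CurveRR.isInvertible_pointIdeal (hdim s).le hP (CurveRR.genericPoint_ne_of_closed (k := κ) (hdim s) hP)
    (SmLocalST.isRegularLocalRing_stalk_of_smooth_field (F ↘ Spec (CommRingCat.of κ)) P)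
  obtain ⟨e'⟩ := Nakai.nonempty_pullback_idealMod (f.fiberι s) hE (hker ▸ (Groth.Agent.S8914.result _).1 hJ)
  obtain ⟨a⟩ := TMul.nonempty_pullTensorIso (f.fiberι s) L (ClSub.idealMod σ.ker)
  have hLs := PicLoc.isInvertible_pullback (f.fiberι s) hL
  have hinv : ClSub.IsInverseOf ((Scheme.Modules.pullback (f.fiberι s)).obj L)
      (ClSub.idealMod (Scheme.IdealSheafData.vanishingIdeal ⟨{P}, hP⟩)) :=
    ⟨PicGrp.tensorModIso (Iso.refl _) (e' ≪≫ eqToIso (congrArg ClSub.idealMod hker)).symm ≪≫ a ≪≫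
      (Scheme.Modules.pullback (f.fiberι s)).mapIso (TMul.commIso _ _ ≪≫ e) ≪≫ PicLoc.pullbackStructureIso _⟩
  have h1 := CurveRR.deg_tensor_cartier (k := κ) (hdim s).le ((Groth.Agent.S8914.result _).1 hJ) hLs hinv
    (CurveRR.isFinLocFreeOfRank_one (TMul.isInvertible_structureModule (X := F)))
  rw [CurveRR.deg_structure, CurveRR.h0_quotMod_ratPoint hP τ hτ hτP, Curv2.deg,
    CurveRR.euler_eq_of_iso (TMul.leftUnitIso _)] at h1
  simpa [Curv2.deg] using h1

/-- Near every point a smooth proper family of genus zero curves with a section is a projective line. -/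
theorem isIso_of_closedImmersion_family {X S : Scheme.{u}} (g : X ⟶ S) [Flat g] [IsProper g] [IsLocallyNoetherian S]
    (hfib : ∀ p : S, ∃ (K : Type u) (_ : Field K) (x : Spec (CommRingCat.of K) ⟶ S),
      x (IsLocalRing.closedPoint K) = p ∧ IsIntegral (pullback g x) ∧ topologicalKrullDim ↥(pullback g x) = 1)
    (φ : X ⟶ CohB1.ProjSpaceOver 1 S) [IsClosedImmersion φ] (hφ : φ ≫ CohB1.ProjSpaceOver.toBase 1 S = g) :
    IsIso φ := by
  let h := CohB1.ProjSpaceOver.toBase 1 S
  haveI : IsProper h := HQProj.isProper_toBase 1 S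
  haveI : IsLocallyNoetherian (CohB1.ProjSpaceOver 1 S) := LocallyOfFiniteType.isLocallyNoetherian h
  haveI : IsLocallyNoetherian X := LocallyOfFiniteType.isLocallyNoetherian g
  have hline : ∀ (L : Type u) [Field L] (b : Spec (CommRingCat.of L) ⟶ S),
      ∃ e : CohB1.ProjSpace 1 L ≅ pullback h b, e.hom ≫ pullback.snd h b = CohB1.ProjSpace.toSpec 1 L := by
    intro L _ b
    obtain ⟨e, he⟩ := PnSpec.exists_iso 1 L
    refine ⟨e ≪≫ (isPullback_pMap 1 b).isoPullback, ?_⟩
    rw [Iso.trans_hom, Category.assoc, IsPullback.isoPullback_hom_snd, he]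
  have hsurj : Surjective φ := ⟨fun p => by
    obtain ⟨Ω, iΩ, b, hb, hi, hd⟩ := hfib (h p)
    obtain ⟨e, he⟩ := hline Ω b
    have hp : p ∈ Set.range (pullback.fst h b) := by
      rw [Scheme.Pullback.range_fst]
      exact ⟨IsLocalRing.closedPoint Ω, hb⟩
    obtain ⟨p', hp'⟩ := hp
    have hsq : IsPullback (pullback.fst (φ ≫ h) b) (FibreFlat.fibMap φ h b) φ (pullback.fst h b) :=
      FibreFlat.isPullback_fibMap φ h b
    let i : pullback (φ ≫ h) b ⟶ CohB1.ProjSpace 1 Ω := FibreFlat.fibMap φ h b ≫ e.inv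
    haveI : IsClosedImmersion (FibreFlat.fibMap φ h b) :=
      MorphismProperty.of_isPullback (P := @IsClosedImmersion) hsq inferInstance
    have eqg : pullback (φ ≫ h) b ≅ pullback g b := pullback.congrHom hφ rfl
    haveI : IsIntegral (pullback g b) := hi
    haveI : Nonempty ↥(pullback (φ ≫ h) b) := (Scheme.homeoOfIso eqg).surjective.nonempty
    haveI : IsIntegral (pullback (φ ≫ h) b) := isIntegral_of_isOpenImmersion eqg.hom
    letI : (pullback (φ ≫ h) b).Over (Spec (CommRingCat.of Ω)) := ⟨pullback.snd _ _⟩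
    haveI : IsProper (φ ≫ h) := hφ ▸ ‹IsProper g›
    haveI : IsProper (pullback (φ ≫ h) b ↘ Spec (CommRingCat.of Ω)) :=
      MorphismProperty.pullback_snd _ _ ‹IsProper (φ ≫ h)›
    haveI : IsIso i := CurveRR.Easy.isIso_of_closedImmersion_line (k := Ω)
      ((IsHomeomorph.topologicalKrullDim_eq _ (Scheme.homeoOfIso eqg).isHomeomorph).trans hd) i
    haveI : IsIso (FibreFlat.fibMap φ h b) := by
      rw [show FibreFlat.fibMap φ h b = i ≫ e.hom by simp [i]]
      infer_instance
    obtain ⟨z, hz⟩ := (FibreFlat.fibMap φ h b).surjective p'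
    exact ⟨pullback.fst (φ ≫ h) b z, by
      refine Eq.trans ?_ hp'
      rw [← hz, ← Scheme.Hom.comp_apply, ← Scheme.Hom.comp_apply, hsq.w]⟩⟩
  haveI : Flat (φ ≫ h) := hφ ▸ ‹Flat g›
  haveI : Flat φ := FibreFlat.flat_of_fibres φ h fun L _ b => by
    obtain ⟨e, -⟩ := hline L b
    haveI := Groth.Agent.Horrocks.isIntegral_projSpace (k := L) (n := 1)
    haveI : AlgebraicGeometry.IsReduced (pullback h b) := isReduced_of_isOpenImmersion e.inv
    haveI : IsClosedImmersion (FibreFlat.fibMap φ h b) :=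
      MorphismProperty.of_isPullback (P := @IsClosedImmersion) (FibreFlat.isPullback_fibMap φ h b) inferInstance
    haveI : Surjective (FibreFlat.fibMap φ h b) :=
      MorphismProperty.of_isPullback (P := @Surjective) (FibreFlat.isPullback_fibMap φ h b) hsurj
    haveI : IsIso (FibreFlat.fibMap φ h b) := isIso_of_isClosedImmersion_of_surjective _
    infer_instance
  haveI : LocallyOfFinitePresentation φ := InfLift.lfp_of_lft φ
  haveI := IsOpenImmersion.of_flat_of_mono φ
  exact (isIso_iff_isOpenImmersion_and_surjective φ).2 ⟨inferInstance, hsurj⟩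

/-- A smooth proper family of genus zero curves with a section is a projective line near every point. -/
theorem exists_nhd_iso_line {X S : Scheme.{u}} (f : X ⟶ S) [Smooth f] [IsProper f] [IsLocallyNoetherian S]
    (hfib : ∀ p : S, ∃ (K : Type u) (_ : Field K) (_ : IsAlgClosed K) (x : Spec (CommRingCat.of K) ⟶ S),
      x (IsLocalRing.closedPoint K) = p ∧ IsIntegral (pullback f x) ∧ topologicalKrullDim ↥(pullback f x) = 1 ∧
        @Curv2.genus K _ (pullback f x) ⟨pullback.snd f x⟩ = 0)
    (σ : S ⟶ X) (hσ : σ ≫ f = 𝟙 S) (s : S) :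
    ∃ U : S.Opens, s ∈ U ∧ IsAffineOpen U ∧ ∃ φ : (f ⁻¹ᵁ U).toScheme ⟶ CohB1.ProjSpaceOver 1 U.toScheme,
      IsIso φ ∧ φ ≫ CohB1.ProjSpaceOver.toBase 1 U.toScheme = f ∣_ U := by
  have hfib' := hfib
  choose Kp iK iA xp hxp h1 h2 h3 using hfib'
  have hall := fun p : S => @genusZero_fiber X S f _ _ (Kp p) (iK p) (iA p) (xp p) (h1 p) (h2 p) (h3 p) p (hxp p)
  obtain ⟨L, hL, hdeg⟩ := exists_deg_one f (fun p => (hall p).1) (fun p => (hall p).2.1) σ hσ
  obtain ⟨hint, hd, h0, hg⟩ := hall s
  let κ := S.residueField s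
  letI : (f.fiber s).Over (Spec (CommRingCat.of κ)) := ⟨f.fiberToSpecResidueField s⟩
  haveI : IsIntegral (f.fiber s) := hint
  haveI : IsProper (f.fiber s ↘ Spec (CommRingCat.of κ)) := MorphismProperty.pullback_snd _ _ ‹IsProper f›
  haveI : Smooth (f.fiber s ↘ Spec (CommRingCat.of κ)) := MorphismProperty.pullback_snd _ _ ‹Smooth f›
  have hLs := PicLoc.isInvertible_pullback (f.fiberι s) hL
  obtain ⟨j, hj, hjf, ⟨τ⟩⟩ := CurveVA.exists_closedImmersion_genus_zero hd h0 hg hLs (d := 1) one_pos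
    (by exact_mod_cast hdeg s)
  obtain ⟨e, he, htw⟩ := PnSpec.exists_iso_twist 1 κ
  obtain ⟨ψ⟩ := htw 1
  obtain ⟨U, hsU, hU, φ, hφ, hφf⟩ := exists_nhd_closedImmersion f hL s (j ≫ e.hom) inferInstance
    (((Category.assoc _ _ _).trans (congrArg (j ≫ ·) he)).trans hjf)
    (τ.symm ≪≫ (Scheme.Modules.pullback j).mapIso ψ.symm ≪≫ (Scheme.Modules.pullbackComp j e.hom).app _)
    (CurveRR.subsingleton_h1 (k := κ) hd.le h0 hLs (by
      have h5 : Curv2.deg κ (f.fiber s) (CohIII.fiberMod f L s) 1 = 1 := hdeg s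
      rw [h5, hg]; norm_num))
  haveI : IsLocallyNoetherian U.toScheme := LocallyOfFiniteType.isLocallyNoetherian U.ι
  haveI : IsProper (f ∣_ U) := IsZariskiLocalAtTarget.restrict (P := @IsProper) ‹_› U
  haveI : Flat (f ∣_ U) := IsZariskiLocalAtTarget.restrict (P := @Flat) inferInstance U
  haveI := hφ
  refine ⟨U, hsU, hU, φ, isIso_of_closedImmersion_family (f ∣_ U) (fun p => ?_) φ hφf, hφf⟩
  obtain ⟨K, iK, iA, x, hx, h1, h2, -⟩ := hfib (U.ι p)
  have hr : Set.range x ⊆ Set.range U.ι := by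
    rintro _ ⟨z, rfl⟩
    haveI : Subsingleton (Spec (CommRingCat.of K)) := inferInstanceAs (Subsingleton (PrimeSpectrum K))
    rw [Subsingleton.elim z (IsLocalRing.closedPoint K), hx]
    exact ⟨p, rfl⟩
  let xU := IsOpenImmersion.lift U.ι x hr
  have hxU : xU ≫ U.ι = x := IsOpenImmersion.lift_fac _ _ _
  refine ⟨K, iK, xU, U.ι.isOpenEmbedding.injective (by rw [← Scheme.Hom.comp_apply, hxU]; exact hx), ?_⟩
  let ee : pullback (f ∣_ U) xU ≅ pullback f x :=
    (((IsPullback.of_hasPullback (f ∣_ U) xU).paste_horiz (isPullback_morphismRestrict f U).flip).isoPullback).trans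
      (pullback.congrHom rfl hxU)
  haveI : IsIntegral (pullback f x) := h1
  haveI : Nonempty ↥(pullback (f ∣_ U) xU) := (Scheme.homeoOfIso ee).surjective.nonempty
  exact ⟨isIntegral_of_isOpenImmersion ee.hom,
    (IsHomeomorph.topologicalKrullDim_eq _ (Scheme.homeoOfIso ee).isHomeomorph).trans h2⟩

/-- A family isomorphic to the projective line over an open is one over every ring mapping into it. -/
theorem exists_iso_pullback_line {X S : Scheme.{u}} (f : X ⟶ S) {U : S.Opens}
    (φ : (f ⁻¹ᵁ U).toScheme ⟶ CohB1.ProjSpaceOver 1 U.toScheme) [IsIso φ]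
    (hφ : φ ≫ CohB1.ProjSpaceOver.toBase 1 U.toScheme = f ∣_ U) {R : Type u} [CommRing R]
    (i : Spec (CommRingCat.of R) ⟶ S) (c : Spec (CommRingCat.of R) ⟶ U.toScheme) (hc : c ≫ U.ι = i) :
    ∃ e : pullback f i ≅ CohB1.ProjSpace 1 R, e.hom ≫ CohB1.ProjSpace.toSpec 1 R = pullback.snd f i := by
  obtain ⟨eR, heR⟩ := PnSpec.exists_iso 1 R
  let a : pullback f i ⟶ (f ⁻¹ᵁ U).toScheme :=
    (isPullback_morphismRestrict f U).flip.lift (pullback.fst _ _) (pullback.snd _ _ ≫ c)
      (by rw [Category.assoc, hc]; exact pullback.condition)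
  have ha : IsPullback a (pullback.snd f i) (f ∣_ U) c :=
    IsPullback.of_right (by
      rw [IsPullback.lift_fst, hc]
      exact IsPullback.of_hasPullback f i) (IsPullback.lift_snd _ _ _ _)
      (isPullback_morphismRestrict f U).flip
  let l : pullback f i ⟶ CohB1.ProjSpaceOver 1 (Spec (CommRingCat.of R)) :=
    (isPullback_pMap 1 c).lift (a ≫ φ) (pullback.snd _ _) (by rw [Category.assoc, hφ]; exact ha.w)
  have hl : IsPullback a l φ (pMap 1 c) :=
    IsPullback.of_bot (by rw [IsPullback.lift_snd, hφ]; exact ha) (IsPullback.lift_fst _ _ _ _).symm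
      (isPullback_pMap 1 c)
  haveI : IsIso l := MorphismProperty.of_isPullback (P := MorphismProperty.isomorphisms Scheme) hl ‹IsIso φ›
  refine ⟨asIso l ≪≫ eR.symm, ?_⟩
  rw [Iso.trans_hom, Category.assoc]
  refine Eq.trans (congrArg (l ≫ ·) ?_) (IsPullback.lift_snd _ _ _ _)
  rw [Iso.symm_hom, ← heR, Iso.inv_hom_id_assoc]

/-- A smooth proper family of genus zero curves with a section is Zariski locally a projective line. -/
theorem exists_iso_projLine {X S : Scheme.{u}} (f : X ⟶ S) [Smooth f] [IsProper f] [IsLocallyNoetherian S]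
    (hfib : ∀ (K : Type u) [Field K] [IsAlgClosed K] (x : Spec (CommRingCat.of K) ⟶ S),
      IsIntegral (pullback f x) ∧ topologicalKrullDim ↥(pullback f x) = 1 ∧
        @Curv2.genus K _ (pullback f x) ⟨pullback.snd f x⟩ = 0)
    (σ : S ⟶ X) (hσ : σ ≫ f = 𝟙 S) (s : S) :
    ∃ (R : Type u) (_ : CommRing R) (i : Spec (CommRingCat.of R) ⟶ S), IsOpenImmersion i ∧ s ∈ Set.range i.base ∧
      ∃ e : pullback f i ≅ CohB1.ProjSpace 1 R, e.hom ≫ CohB1.ProjSpace.toSpec 1 R = pullback.snd f i := by
  obtain ⟨U, hsU, hU, φ, hφ, hφf⟩ := exists_nhd_iso_line f (fun p =>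
    ⟨AlgebraicClosure (S.residueField p), inferInstance, inferInstance,
      Spec.map (CommRingCat.ofHom (algebraMap (S.residueField p) _)) ≫ S.fromSpecResidueField p, by
        simp only [Scheme.Hom.comp_apply]
        exact Scheme.fromSpecResidueField_apply _ _, hfib _ _⟩) σ hσ s
  exact ⟨Γ(S, U), inferInstance, hU.fromSpec, inferInstance, hU.range_fromSpec.ge hsU,
    exists_iso_pullback_line f φ hφf hU.fromSpec hU.isoSpec.inv hU.isoSpec_inv_ι⟩

/-- Over an Artinian local ring with algebraically closed residue field genus zero means projective line. -/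
theorem exists_iso_line_artinian {C : Type u} [CommRing C] [IsArtinianRing C] [IsLocalRing C]
    [IsAlgClosed (IsLocalRing.ResidueField C)] {X : Scheme.{u}} (f : X ⟶ Spec (CommRingCat.of C)) [Smooth f]
    [IsProper f]
    (hint : IsIntegral (pullback f (Spec.map (CommRingCat.ofHom (IsLocalRing.residue C)))))
    (hdim : topologicalKrullDim ↥(pullback f (Spec.map (CommRingCat.ofHom (IsLocalRing.residue C)))) = 1)
    (hg : @Curv2.genus (IsLocalRing.ResidueField C) _ (pullback f (Spec.map (CommRingCat.ofHom (IsLocalRing.residue C))))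
      ⟨pullback.snd f (Spec.map (CommRingCat.ofHom (IsLocalRing.residue C)))⟩ = 0) :
    ∃ e : X ≅ CohB1.ProjSpace 1 C, e.hom ≫ CohB1.ProjSpace.toSpec 1 C = f := by
  let k := IsLocalRing.ResidueField C
  let r : Spec (CommRingCat.of k) ⟶ Spec (CommRingCat.of C) := Spec.map (CommRingCat.ofHom (IsLocalRing.residue C))
  haveI := hint
  haveI : LocallyOfFiniteType (pullback.snd f r) := MorphismProperty.pullback_snd _ _ inferInstance
  obtain ⟨⟨z, hz⟩⟩ : Nonempty (closedPoints ↥(pullback f r)) := by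
    haveI : CompactSpace ↥(pullback f r) := QuasiCompact.compactSpace_of_compactSpace (pullback.snd f r)
    obtain ⟨z, -, hz⟩ := (isClosed_univ (X := ↥(pullback f r))).exists_closed_singleton Set.univ_nonempty
    exact ⟨⟨z, hz⟩⟩
  let p₀ := pointOfClosedPoint (pullback.snd f r) z hz
  have key : ∀ n : ℕ, 1 ≤ n → ∃ γ : Spec (CommRingCat.of (C ⧸ maximalIdeal C ^ n)) ⟶ X,
      γ ≫ f = Spec.map (CommRingCat.ofHom (Ideal.Quotient.mk (maximalIdeal C ^ n))) := by
    intro n hn
    induction n, hn using Nat.le_induction with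
    | base =>
      let e : C ⧸ maximalIdeal C ^ 1 ≃+* k := Ideal.quotEquivOfEq (pow_one _)
      refine ⟨Spec.map (CommRingCat.ofHom e.symm.toRingHom) ≫ p₀ ≫ pullback.fst f r, ?_⟩
      rw [Category.assoc, Category.assoc, pullback.condition, pointOfClosedPoint_comp_assoc, ← Spec.map_comp,
        ← CommRingCat.ofHom_comp]
      congr 2
    | succ n hn ih =>
      obtain ⟨γ, hγ⟩ := ih
      have hle : maximalIdeal C ^ (n + 1) ≤ maximalIdeal C ^ n := Ideal.pow_le_pow_right n.le_succ
      obtain ⟨δ, -, hδ⟩ := InfLift.exists_lift_of_smooth f (Ideal.Quotient.factor hle)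
        (Ideal.Quotient.factor_surjective hle) (by
          rw [Ideal.Quotient.factor_ker, ← Ideal.map_pow, eq_bot_iff, Ideal.map_le_iff_le_comap,
            ← RingHom.ker_eq_comap_bot, Ideal.mk_ker, ← pow_mul]
          exact Ideal.pow_le_pow_right (by omega))
        γ (Spec.map (CommRingCat.ofHom (Ideal.Quotient.mk (maximalIdeal C ^ (n + 1))))) (by
          rw [hγ, ← Spec.map_comp, ← CommRingCat.ofHom_comp, Ideal.Quotient.factor_comp_mk])
      exact ⟨δ, hδ⟩
  obtain ⟨N, hN⟩ := IsArtinianRing.isNilpotent_jacobson_bot (R := C)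
  rw [IsLocalRing.jacobson_eq_maximalIdeal _ bot_ne_top] at hN
  obtain ⟨γ, hγ⟩ := key (N + 1) (by omega)
  have hN1 : maximalIdeal C ^ (N + 1) = ⊥ := by rw [pow_succ, hN]; simp
  let q : C ≃+* C ⧸ maximalIdeal C ^ (N + 1) := ((Ideal.quotEquivOfEq hN1).trans (RingEquiv.quotientBot C)).symm
  let σ : Spec (CommRingCat.of C) ⟶ X := Spec.map (CommRingCat.ofHom q.symm.toRingHom) ≫ γ
  have hσ : σ ≫ f = 𝟙 _ := by
    rw [Category.assoc, hγ, ← Spec.map_comp, ← CommRingCat.ofHom_comp, ← Spec.map_id]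
    congr 1
  have hpt : ∀ a b : ↥(Spec (CommRingCat.of C)), a = b := fun a b => PrimeSpectrum.ext
    ((IsLocalRing.eq_maximalIdeal (IsArtinianRing.isMaximal_of_isPrime a.asIdeal)).trans
      (IsLocalRing.eq_maximalIdeal (IsArtinianRing.isMaximal_of_isPrime b.asIdeal)).symm)
  obtain ⟨U, hsU, -, φ, hφ, hφf⟩ := exists_nhd_iso_line f
    (fun p => ⟨k, inferInstance, inferInstance, r, hpt _ _, hint, hdim, hg⟩) σ hσ (IsLocalRing.closedPoint C)
  have hU : Set.range (𝟙 (Spec (CommRingCat.of C))) ⊆ Set.range U.ι := fun a _ => by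
    rw [Scheme.Opens.range_ι, hpt a (IsLocalRing.closedPoint C)]
    exact hsU
  obtain ⟨e, he⟩ := exists_iso_pullback_line f φ hφf (𝟙 _) (IsOpenImmersion.lift U.ι (𝟙 _) hU)
    (IsOpenImmersion.lift_fac _ _ _)
  refine ⟨(asIso (pullback.fst f (𝟙 (Spec (CommRingCat.of C))))).symm ≪≫ e, ?_⟩
  rw [Iso.trans_hom, Category.assoc, he, Iso.symm_hom, asIso_inv, IsIso.inv_comp_eq, pullback.condition, Category.comp_id]

end Groth.Agent.CurveFam

end
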